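import Mathlib
import Cfsg.Agent.H948.P3.Act
import Cfsg.Agent.H942.E8Tab

/-!
# S5921, P3: components, forms, and the good matrices
-/

set_option autoImplicit false
set_option linter.unusedSectionVars false
set_option maxRecDepth 100000

namespace Cfsg.Agent.H948.P3

open Matrix Cfsg Cfsg.Lie Cfsg.Lie.ChevalleyDatum
open Cfsg.Agent.ChevalleyStructure Cfsg.Agent.ChevalleyStructure.XColumns

universe u

/-- the indices of the roots `α_i`, `i = 1, 2, 4, 6` -/
def pI : Fin 4 → ℕ := ![141, 135, 126, 121]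

/-- the indices of the roots `-α_i`, `i = 1, 2, 4, 6` -/
def nI : Fin 4 → ℕ := ![98, 104, 113, 118]

/-- the indices of the coroots -/
def hI : Fin 4 → Fin 8 := ![1, 2, 4, 6]

theorem pI_lt : ∀ j, pI j < chevE8.nroots := by decide
theorem nI_lt : ∀ j, nI j < chevE8.nroots := by decide
theorem hI_lt : ∀ j, ((hI j : Fin 8) : ℕ) < chevE8.rank := by decide
theorem neg_pI : ∀ j, chevE8.neg (pI j) = nI j := by decide +kernel
theorem neg_nI : ∀ j, chevE8.neg (nI j) = pI j := by decide +kernel
theorem pI_ne_nI : ∀ i j, pI i ≠ nI j := by decide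
theorem pI_inj : ∀ i j, pI i = pI j → i = j := by decide
theorem nI_inj : ∀ i j, nI i = nI j → i = j := by decide
theorem hI_inj : ∀ i j, hI i = hI j → i = j := by decide

theorem row_p : ∀ j, ((row chevE8 (pI j)).map Prod.fst).Nodup := by decide +kernel
theorem row_n : ∀ j, ((row chevE8 (nI j)).map Prod.fst).Nodup := by decide +kernel

theorem ch_pp : ∀ i j, i ≠ j → chevE8.chainEntry (pI i) (pI j) = [] := by decide +kernel
theorem ch_pn : ∀ i j, i ≠ j → chevE8.chainEntry (pI i) (nI j) = [] := by decide +kernel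
theorem ch_np : ∀ i j, i ≠ j → chevE8.chainEntry (nI i) (pI j) = [] := by decide +kernel
theorem ch_nn : ∀ i j, i ≠ j → chevE8.chainEntry (nI i) (nI j) = [] := by decide +kernel

theorem car_n : ∀ (j : Fin 4) (i : Fin chevE8.rank), chevE8.cartan i.val (nI j) = - chevE8.cartan i.val (pI j) := by
  decide +kernel
theorem car_h : ∀ i j : Fin 4, chevE8.cartan (hI i).val (pI j) = if i = j then 2 else 0 := by decide +kernel
theorem cor_p : ∀ (j : Fin 4) (i : Fin chevE8.rank), (chevE8.coroot.getD (pI j) #[]).getD i.val 0 =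
    if i.val = (hI j).val then 1 else 0 := by decide +kernel
theorem cor_n : ∀ (j : Fin 4) (i : Fin chevE8.rank), (chevE8.coroot.getD (nI j) #[]).getD i.val 0 =
    if i.val = (hI j).val then -1 else 0 := by decide +kernel

/-- the index of `α` -/
def px (j : Fin 4) : chevE8.Idx := Sum.inr ⟨pI j, pI_lt j⟩

/-- the index of `-α` -/
def nx (j : Fin 4) : chevE8.Idx := Sum.inr ⟨nI j, nI_lt j⟩

/-- the index of the coroot -/
def hx (i : Fin 8) : chevE8.Idx := Sum.inl ⟨i.val, i.2⟩

variable {K : Type u} [Field K]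

/-- the support condition -/
def Su (u : chevE8.Idx → K) : Prop :=
  ∀ s : Fin chevE8.nroots, u (Sum.inr s) ≠ 0 → ∃ j : Fin 4, s.val = pI j ∨ s.val = nI j

/-- the value of the root on the Cartan part -/
def al (j : Fin 4) : (chevE8.Idx → K) →ₗ[K] K :=
  ∑ i : Fin chevE8.rank, (chevE8.cartan i.val (pI j) : K) • LinearMap.proj (Sum.inl i)

theorem al_apply (j : Fin 4) (u : chevE8.Idx → K) :
    al j u = ∑ i : Fin chevE8.rank, (chevE8.cartan i.val (pI j) : K) * u (Sum.inl i) := by
  simp [al]

/-- the component -/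
def cp (j : Fin 4) : (chevE8.Idx → K) →ₗ[K] (Fin 3 → K) :=
  LinearMap.pi ![LinearMap.proj (px j), LinearMap.proj (nx j), al j]

theorem cp_zero (j : Fin 4) (u : chevE8.Idx → K) : cp j u 0 = u (px j) := rfl
theorem cp_one (j : Fin 4) (u : chevE8.Idx → K) : cp j u 1 = u (nx j) := rfl
theorem cp_two (j : Fin 4) (u : chevE8.Idx → K) : cp j u 2 = al j u := rfl

theorem cp_eq (j : Fin 4) (u : chevE8.Idx → K) : cp j u = ![u (px j), u (nx j), al j u] := by
  funext k
  fin_cases k <;> rfl

/-- the central part -/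
def zp : (chevE8.Idx → K) →ₗ[K] (Fin 8 → K) :=
  LinearMap.pi fun i => LinearMap.proj (hx i) + ∑ j : Fin 4, (if hI j = i then (1 : K) else 0) • al j

theorem zp_apply (u : chevE8.Idx → K) (i : Fin 8) :
    zp u i = u (hx i) + ∑ j : Fin 4, (if hI j = i then (1 : K) else 0) * al j u := by
  unfold zp
  rw [LinearMap.pi_apply, LinearMap.add_apply, LinearMap.sum_apply]
  rfl

/-- the quadratic form -/
def Qf (v : Fin 3 → K) : K := v 0 * v 1 + v 2 ^ 2

/-- a vector is determined by its components -/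
theorem ext_of_comp {u : chevE8.Idx → K} (hu : Su u) (hz : zp u = 0) (hc : ∀ j, cp j u = 0) : u = 0 := by
  have hal : ∀ j, al j u = 0 := fun j => by
    have := congrFun (hc j) 2
    rwa [cp_two] at this
  funext a
  rcases a with i | s
  · have h1 := congrFun hz ⟨i.val, i.2⟩
    rw [zp_apply, Finset.sum_eq_zero fun j _ => by rw [hal j, mul_zero], add_zero] at h1
    exact h1
  · by_contra h0
    obtain ⟨j, hj | hj⟩ := hu s h0
    · apply h0
      have h1 := congrFun (hc j) 0
      rw [cp_zero] at h1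
      have e : (Sum.inr s : chevE8.Idx) = px j := by
        unfold px; congr 1; exact Fin.ext hj
      rw [e]; exact h1
    · apply h0
      have h1 := congrFun (hc j) 1
      rw [cp_one] at h1
      have e : (Sum.inr s : chevE8.Idx) = nx j := by
        unfold nx; congr 1; exact Fin.ext hj
      rw [e]; exact h1

theorem Su.add {u v : chevE8.Idx → K} (hu : Su u) (hv : Su v) : Su (u + v) := by
  intro s hs
  by_cases h : u (Sum.inr s) = 0
  · exact hv s fun h' => hs (by rw [Pi.add_apply, h, h', add_zero])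
  · exact hu s h

theorem Su.smul {u : chevE8.Idx → K} (hu : Su u) (c : K) : Su (c • u) := by
  intro s hs
  exact hu s fun h' => hs (by rw [Pi.smul_apply, h', smul_zero])

theorem Su.zero : Su (0 : chevE8.Idx → K) := fun s hs => absurd rfl hs

theorem Su.sum {ι : Type*} (t : Finset ι) (f : ι → chevE8.Idx → K) (hf : ∀ i ∈ t, Su (f i)) : Su (∑ i ∈ t, f i) := by
  classical
  induction t using Finset.induction_on with
  | empty => rw [Finset.sum_empty]; exact Su.zero
  | insert a t ha ih =>
    rw [Finset.sum_insert ha]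
    exact (hf a (Finset.mem_insert_self a t)).add (ih fun i hi => hf i (Finset.mem_insert_of_mem hi))

theorem su_ev {r : ℕ} (h : ∃ j : Fin 4, r = pI j ∨ r = nI j) : Su (ev chevE8 K r) := by
  intro s hs
  rw [ev_inr] at hs
  have h1 : s.val = r := by
    by_contra h1
    rw [if_neg h1] at hs
    exact hs rfl
  rw [h1]
  exact h

theorem su_hv (i : ℕ) : Su (hv chevE8 K i) := by
  intro s hs
  exact absurd (hv_inr i s) hs

/-! ### the values of the components -/

theorem al_ev (j : Fin 4) (r : ℕ) : al j (ev chevE8 K r) = 0 := by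
  rw [al_apply]
  exact Finset.sum_eq_zero fun i _ => by rw [ev_inl, mul_zero]

theorem al_hv (i j : Fin 4) : al j (hv chevE8 K (hI i).val) = if i = j then 2 else 0 := by
  rw [al_apply, Finset.sum_eq_single (⟨(hI i).val, hI_lt i⟩ : Fin chevE8.rank)]
  · rw [hv_inl, if_pos rfl, mul_one]
    show ((chevE8.cartan (hI i).val (pI j) : ℤ) : K) = _
    rw [car_h]
    split_ifs <;> simp
  · intro b _ hb
    rw [hv_inl, if_neg (fun h => hb (Fin.ext h)), mul_zero]
  · intro h; exact absurd (Finset.mem_univ _) h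

theorem cp_ev_p (i j : Fin 4) : cp j (ev chevE8 K (pI i)) = if i = j then ![1, 0, 0] else 0 := by
  rw [cp_eq, al_ev]
  have h1 : ev chevE8 K (pI i) (px j) = if i = j then 1 else 0 := by
    unfold px
    rw [ev_inr]
    by_cases h : i = j
    · subst h; simp
    · rw [if_neg h, if_neg fun h' => h (pI_inj _ _ h').symm]
  have h2 : ev chevE8 K (pI i) (nx j) = 0 := by
    unfold nx
    rw [ev_inr, if_neg fun h' => pI_ne_nI i j h'.symm]
  rw [h1, h2]
  split_ifs
  · rfl
  · funext k; fin_cases k <;> rfl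

theorem cp_ev_n (i j : Fin 4) : cp j (ev chevE8 K (nI i)) = if i = j then ![0, 1, 0] else 0 := by
  rw [cp_eq, al_ev]
  have h1 : ev chevE8 K (nI i) (nx j) = if i = j then 1 else 0 := by
    unfold nx
    rw [ev_inr]
    by_cases h : i = j
    · subst h; simp
    · rw [if_neg h, if_neg fun h' => h (nI_inj _ _ h').symm]
  have h2 : ev chevE8 K (nI i) (px j) = 0 := by
    unfold px
    rw [ev_inr, if_neg fun h' => pI_ne_nI j i h']
  rw [h1, h2]
  split_ifs
  · rfl
  · funext k; fin_cases k <;> rfl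

theorem cp_hv (i j : Fin 4) : cp j (hv chevE8 K (hI i).val) = if i = j then ![0, 0, 2] else 0 := by
  rw [cp_eq, al_hv]
  have h1 : hv chevE8 K (hI i).val (px j) = 0 := hv_inr _ _
  have h2 : hv chevE8 K (hI i).val (nx j) = 0 := hv_inr _ _
  rw [h1, h2]
  split_ifs
  · rfl
  · funext k; fin_cases k <;> rfl

theorem zp_ev (r : ℕ) : zp (ev chevE8 K r) = 0 := by
  funext i
  rw [zp_apply, Finset.sum_eq_zero fun j _ => by rw [al_ev, mul_zero], add_zero]
  exact ev_inl _ _

theorem zp_hv (h3 : (3 : K) = 0) (i : Fin 4) : zp (hv chevE8 K (hI i).val) = 0 := by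
  funext k
  rw [zp_apply, Finset.sum_eq_single i]
  · rw [al_hv, if_pos rfl]
    have h1 : hv chevE8 K (hI i).val (hx k) = if hI i = k then 1 else 0 := by
      unfold hx
      rw [hv_inl]
      by_cases h : hI i = k
      · subst h; simp
      · rw [if_neg h, if_neg fun h' => h (Fin.ext h').symm]
    rw [h1, Pi.zero_apply]
    split_ifs
    · linear_combination h3
    · ring
  · intro b _ hb
    rw [al_hv, if_neg (Ne.symm hb), mul_zero]
  · intro h; exact absurd (Finset.mem_univ _) h

/-! ### the root elements -/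

theorem corv_p (j : Fin 4) : corv chevE8 K (pI j) = hv chevE8 K (hI j).val := by
  funext a
  rcases a with i | s
  · rw [corv_inl, hv_inl, cor_p]
    split_ifs <;> simp
  · rfl

theorem corv_n (j : Fin 4) : corv chevE8 K (nI j) = - hv chevE8 K (hI j).val := by
  funext a
  rcases a with i | s
  · rw [corv_inl, Pi.neg_apply, hv_inl, cor_n]
    split_ifs <;> simp
  · rw [corv_inr, Pi.neg_apply, hv_inr, neg_zero]

theorem x_p {u : chevE8.Idx → K} (hu : Su u) (j : Fin 4) (t : K) :
    chevE8.x K (pI j) t *ᵥ u = u + (-(t * al j u) - t ^ 2 * u (nx j)) • ev chevE8 K (pI j) +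
      (t * u (nx j)) • hv chevE8 K (hI j).val := by
  have h1 := x_act (K := K) (D := chevE8) (r := pI j) (pI_lt j) (by rw [neg_pI]; exact nI_lt j)
    (by rw [neg_pI]; exact (pI_ne_nI j j).symm) (row_p j) u (fun s hs h2 h3 => by
      obtain ⟨i, hi | hi⟩ := hu s hs
      · rw [hi]
        exact ch_pp j i fun h => h2 (by rw [hi, h])
      · rw [hi]
        exact ch_pn j i fun h => h3 (by rw [hi, h, neg_pI])) t
  rw [h1, corv_p, ← al_apply]
  have e : (Sum.inr ⟨chevE8.neg (pI j), by rw [neg_pI]; exact nI_lt j⟩ : chevE8.Idx) = nx j := by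
    unfold nx; congr 1; exact Fin.ext (neg_pI j)
  rw [e]

theorem x_n {u : chevE8.Idx → K} (hu : Su u) (j : Fin 4) (t : K) :
    chevE8.x K (nI j) t *ᵥ u = u + (t * al j u - t ^ 2 * u (px j)) • ev chevE8 K (nI j) -
      (t * u (px j)) • hv chevE8 K (hI j).val := by
  have h1 := x_act (K := K) (D := chevE8) (r := nI j) (nI_lt j) (by rw [neg_nI]; exact pI_lt j)
    (by rw [neg_nI]; exact pI_ne_nI j j) (row_n j) u (fun s hs h2 h3 => by
      obtain ⟨i, hi | hi⟩ := hu s hs
      · rw [hi]
        exact ch_np j i fun h => h3 (by rw [hi, h, neg_nI])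
      · rw [hi]
        exact ch_nn j i fun h => h2 (by rw [hi, h])) t
  have e : (Sum.inr ⟨chevE8.neg (nI j), by rw [neg_nI]; exact pI_lt j⟩ : chevE8.Idx) = px j := by
    unfold px; congr 1; exact Fin.ext (neg_nI j)
  have e2 : ∑ i : Fin chevE8.rank, (chevE8.cartan i.val (nI j) : K) * u (Sum.inl i) = - al j u := by
    rw [al_apply, ← Finset.sum_neg_distrib]
    refine Finset.sum_congr rfl fun i _ => ?_
    rw [car_n]
    push_cast
    ring
  rw [h1, corv_n, e, e2, smul_neg, mul_neg, neg_neg, ← sub_eq_add_neg]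

/-! ### good matrices -/

/-- the matrix preserves the components, the forms and fixes the central part -/
structure Good (A : Matrix chevE8.Idx chevE8.Idx K) : Prop where
  su : ∀ u, Su u → Su (A *ᵥ u)
  zp : ∀ u, Su u → zp (A *ᵥ u) = zp u
  ker : ∀ u, Su u → ∀ j, cp j u = 0 → cp j (A *ᵥ u) = 0
  q : ∀ u, Su u → ∀ j, Qf (cp j (A *ᵥ u)) = Qf (cp j u)

theorem Good.one : Good (1 : Matrix chevE8.Idx chevE8.Idx K) where
  su u hu := by rwa [Matrix.one_mulVec]
  zp u hu := by rw [Matrix.one_mulVec]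
  ker u hu j hj := by rwa [Matrix.one_mulVec]
  q u hu j := by rw [Matrix.one_mulVec]

theorem Good.mul {A B : Matrix chevE8.Idx chevE8.Idx K} (hA : Good A) (hB : Good B) : Good (A * B) where
  su u hu := by rw [← Matrix.mulVec_mulVec]; exact hA.su _ (hB.su u hu)
  zp u hu := by rw [← Matrix.mulVec_mulVec, hA.zp _ (hB.su u hu), hB.zp u hu]
  ker u hu j hj := by rw [← Matrix.mulVec_mulVec]; exact hA.ker _ (hB.su u hu) j (hB.ker u hu j hj)
  q u hu j := by rw [← Matrix.mulVec_mulVec, hA.q _ (hB.su u hu), hB.q u hu]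

theorem good_p (h3 : (3 : K) = 0) (j : Fin 4) (t : K) : Good (chevE8.x K (pI j) t) := by
  have key : ∀ u : chevE8.Idx → K, Su u → ∀ i, cp i (chevE8.x K (pI j) t *ᵥ u) = cp i u +
      (if j = i then ![-(t * al j u) - t ^ 2 * u (nx j), 0, t * u (nx j) * 2] else 0) := by
    intro u hu i
    rw [x_p hu, map_add, map_add, map_smul, map_smul, cp_ev_p, cp_hv, add_assoc]
    congr 1
    split_ifs
    · funext k; fin_cases k <;> simp
    · simp
  refine ⟨fun u hu => ?_, fun u hu => ?_, fun u hu i hi => ?_, fun u hu i => ?_⟩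
  · rw [x_p hu]
    exact (hu.add ((su_ev ⟨j, Or.inl rfl⟩).smul _)).add ((su_hv _).smul _)
  · rw [x_p hu, map_add, map_add, map_smul, map_smul, zp_ev, zp_hv h3, smul_zero, smul_zero, add_zero, add_zero]
  · rw [key u hu, hi, zero_add]
    split_ifs with h
    · subst h
      have e1 : al j u = 0 := by have := congrFun hi 2; rwa [cp_two] at this
      have e2 : u (nx j) = 0 := by have := congrFun hi 1; rwa [cp_one] at this
      rw [e1, e2]
      funext k; fin_cases k <;> simp
    · rfl
  · rw [key u hu]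
    split_ifs with h
    · subst h
      rw [cp_eq]
      simp only [Qf, Matrix.add_cons, Matrix.head_cons, Matrix.tail_cons, Matrix.empty_add_empty, Matrix.cons_val_zero,
        Matrix.cons_val_one, Matrix.cons_val]
      linear_combination (t * al j u * u (nx j) + t ^ 2 * u (nx j) ^ 2) * h3
    · rw [add_zero]

theorem good_n (h3 : (3 : K) = 0) (j : Fin 4) (t : K) : Good (chevE8.x K (nI j) t) := by
  have key : ∀ u : chevE8.Idx → K, Su u → ∀ i, cp i (chevE8.x K (nI j) t *ᵥ u) = cp i u +
      (if j = i then ![0, t * al j u - t ^ 2 * u (px j), -(t * u (px j) * 2)] else 0) := by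
    intro u hu i
    rw [x_n hu, map_sub, map_add, map_smul, map_smul, cp_ev_n, cp_hv, add_sub_assoc]
    congr 1
    split_ifs
    · funext k; fin_cases k <;> simp
    · simp
  refine ⟨fun u hu => ?_, fun u hu => ?_, fun u hu i hi => ?_, fun u hu i => ?_⟩
  · rw [x_n hu, sub_eq_add_neg, ← neg_smul]
    exact (hu.add ((su_ev ⟨j, Or.inr rfl⟩).smul _)).add ((su_hv _).smul _)
  · rw [x_n hu, map_sub, map_add, map_smul, map_smul, zp_ev, zp_hv h3, smul_zero, smul_zero, add_zero, sub_zero]
  · rw [key u hu, hi, zero_add]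
    split_ifs with h
    · subst h
      have e1 : al j u = 0 := by have := congrFun hi 2; rwa [cp_two] at this
      have e2 : u (px j) = 0 := by have := congrFun hi 0; rwa [cp_zero] at this
      rw [e1, e2]
      funext k; fin_cases k <;> simp
    · rfl
  · rw [key u hu]
    split_ifs with h
    · subst h
      rw [cp_eq]
      simp only [Qf, Matrix.add_cons, Matrix.head_cons, Matrix.tail_cons, Matrix.empty_add_empty, Matrix.cons_val_zero,
        Matrix.cons_val_one, Matrix.cons_val]
      linear_combination (-(t * al j u * u (px j)) + t ^ 2 * u (px j) ^ 2) * h3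
    · rw [add_zero]

/-- diagonal matrices -/
theorem good_diag {d : Fin chevE8.nroots → K} (hd : ∀ j, d ⟨pI j, pI_lt j⟩ * d ⟨nI j, nI_lt j⟩ = 1) :
    Good (Matrix.diagonal (Sum.elim (fun _ : Fin chevE8.rank => (1 : K)) d)) := by
  have h1 : ∀ (u : chevE8.Idx → K) (i : Fin chevE8.rank),
      (Matrix.diagonal (Sum.elim (fun _ : Fin chevE8.rank => (1 : K)) d) *ᵥ u) (Sum.inl i) = u (Sum.inl i) := by
    intro u i
    rw [Matrix.mulVec_diagonal, Sum.elim_inl, one_mul]
  have h2 : ∀ (u : chevE8.Idx → K) (s : Fin chevE8.nroots),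
      (Matrix.diagonal (Sum.elim (fun _ : Fin chevE8.rank => (1 : K)) d) *ᵥ u) (Sum.inr s) = d s * u (Sum.inr s) := by
    intro u s
    rw [Matrix.mulVec_diagonal, Sum.elim_inr]
  have h3 : ∀ (u : chevE8.Idx → K) (j : Fin 4),
      al j (Matrix.diagonal (Sum.elim (fun _ : Fin chevE8.rank => (1 : K)) d) *ᵥ u) = al j u := by
    intro u j
    rw [al_apply, al_apply]
    exact Finset.sum_congr rfl fun i _ => by rw [h1]
  refine ⟨fun u hu => ?_, fun u hu => ?_, fun u hu i hi => ?_, fun u hu i => ?_⟩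
  · intro s hs
    rw [h2] at hs
    exact hu s (right_ne_zero_of_mul hs)
  · funext k
    rw [zp_apply, zp_apply]
    congr 1
    · exact h1 _ _
    · exact Finset.sum_congr rfl fun j _ => by rw [h3]
  · rw [cp_eq, h3]
    have e0 : u (px i) = 0 := by have := congrFun hi 0; rwa [cp_zero] at this
    have e1 : u (nx i) = 0 := by have := congrFun hi 1; rwa [cp_one] at this
    have e2 : al i u = 0 := by have := congrFun hi 2; rwa [cp_two] at this
    rw [e2]
    unfold px nx at *
    rw [h2, h2, e0, e1, mul_zero, mul_zero]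
    funext k; fin_cases k <;> simp
  · rw [cp_eq, cp_eq, h3]
    unfold px nx
    rw [h2, h2]
    simp only [Qf, Matrix.cons_val_zero, Matrix.cons_val_one, Matrix.cons_val]
    linear_combination (u (Sum.inr ⟨pI i, pI_lt i⟩) * u (Sum.inr ⟨nI i, nI_lt i⟩)) * hd i

/-! ### the kernel criterion -/

theorem fix_p {u : chevE8.Idx → K} (hu : Su u) {j : Fin 4} (hj : cp j u = 0) (t : K) : chevE8.x K (pI j) t *ᵥ u = u := by
  have e1 : al j u = 0 := by have := congrFun hj 2; rwa [cp_two] at this
  have e2 : u (nx j) = 0 := by have := congrFun hj 1; rwa [cp_one] at this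
  rw [x_p hu, e1, e2]
  simp

theorem fix_n {u : chevE8.Idx → K} (hu : Su u) {j : Fin 4} (hj : cp j u = 0) (t : K) : chevE8.x K (nI j) t *ᵥ u = u := by
  have e1 : al j u = 0 := by have := congrFun hj 2; rwa [cp_two] at this
  have e2 : u (px j) = 0 := by have := congrFun hj 0; rwa [cp_zero] at this
  rw [x_n hu, e1, e2]
  simp

theorem ker_of_fix {u : chevE8.Idx → K} (hu : Su u) {j : Fin 4} (h1 : chevE8.x K (pI j) 1 *ᵥ u = u)
    (h2 : chevE8.x K (nI j) 1 *ᵥ u = u) : cp j u = 0 := by
  rw [x_p hu, add_assoc, add_eq_left] at h1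
  rw [x_n hu, add_sub_assoc, add_eq_left] at h2
  have e1 : ev chevE8 K (pI j) (hx (hI j)) = 0 := rfl
  have e2 : hv chevE8 K (hI j).val (hx (hI j)) = 1 := if_pos rfl
  have e3 : ev chevE8 K (nI j) (hx (hI j)) = 0 := rfl
  have e4 : ev chevE8 K (pI j) (px j) = 1 := if_pos rfl
  have e5 : hv chevE8 K (hI j).val (px j) = 0 := rfl
  have h3 := congrFun h1 (hx (hI j))
  have h4 := congrFun h2 (hx (hI j))
  have h5 := congrFun h1 (px j)
  simp only [Pi.add_apply, Pi.sub_apply, Pi.smul_apply, smul_eq_mul, e1, e2, e3, e4, e5, Pi.zero_apply, mul_zero,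
    zero_add, mul_one, one_mul, one_pow, add_zero, zero_sub, neg_eq_zero] at h3 h4 h5
  rw [h3, sub_zero, neg_eq_zero] at h5
  rw [cp_eq, h3, h4, h5]
  funext k; fin_cases k <;> rfl

end Cfsg.Agent.H948.P3
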